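import Cfsg.Agent.H955.L34.DTwo
import Cfsg.Agent.H170.L34.NineR

/-!
# S5917, D2: the vectors fixed by the unitary group, given submodules of both types 9 (helper280)
-/

set_option autoImplicit false
set_option linter.unusedSectionVars false

namespace Cfsg.Agent.H280.L34

open Matrix Cfsg.Agent.H691.L34 Module
open Cfsg.Agent.H904.L34 (VE mem_VE av av_apply av_mem av_sub_mem av_eq_self av_mem_of_inv finrank_map_add RR mem_RR
  E_odd)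

variable {F : Type} [Field F] [Fintype F] {V : Type} [AddCommGroup V] [Module (ZMod 2) V] [Module.Finite (ZMod 2) V]
  {ρ : Representation (ZMod 2) (G3 F) V}

/-- the vectors of the sum of two submodules of type 9 fixed by `E` -/
theorem finrank_VE_two (hF : Fintype.card F = 4) {E : Subgroup (G3 F)}
    (hE : ∀ g : G3 F, g ∈ E ↔ (hact g (1 : M3 F) = 1 ∧ g ^ 3 = 1)) {b c : Bool} {N N' : Submodule (ZMod 2) V}
    (hN : IsNine ρ b N) (hN' : IsNine ρ c N') : finrank (ZMod 2) (VE ρ E ⊓ (N ⊔ N') : Submodule (ZMod 2) V) ≤ 2 := by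
  obtain ⟨n, n0, -, -, -, hn⟩ := Cfsg.Agent.H170.L34.nineR' hF hN hE
  obtain ⟨n', n0', -, -, -, hn'⟩ := Cfsg.Agent.H170.L34.nineR' hF hN' hE
  have hi := (Cfsg.Agent.H360.L34.nine_simp hF hN).1
  have hi' := (Cfsg.Agent.H360.L34.nine_simp hF hN').1
  have h1 : VE ρ E ⊓ (N ⊔ N') ≤ (VE ρ E ⊓ N) ⊔ (VE ρ E ⊓ N') := by
    rintro x ⟨hx, hx2⟩
    obtain ⟨a, ha, a', ha', rfl⟩ := Submodule.mem_sup.1 hx2
    rw [← av_eq_self ρ (E_odd hF hE) hx, map_add]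
    exact Submodule.add_mem_sup ⟨av_mem ρ E a, av_mem_of_inv ρ N hi ha⟩ ⟨av_mem ρ E a', av_mem_of_inv ρ N' hi' ha'⟩
  have h2 := Submodule.finrank_mono h1
  have h3 := Submodule.finrank_add_le_finrank_add_finrank (VE ρ E ⊓ N) (VE ρ E ⊓ N')
  have h4 : finrank (ZMod 2) (VE ρ E ⊓ N : Submodule (ZMod 2) V) ≤ 1 := by
    rw [hn]; exact (finrank_span_singleton n0).le
  have h5 : finrank (ZMod 2) (VE ρ E ⊓ N' : Submodule (ZMod 2) V) ≤ 1 := by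
    rw [hn']; exact (finrank_span_singleton n0').le
  omega

/-- **`dim V^R ≤ 5`** -/
theorem dimR_le {E : Subgroup (G3 F)} (hE : ∀ g : G3 F, g ∈ E ↔ (hact g (1 : M3 F) = 1 ∧ g ^ 3 = 1)) {i j : G3 F}
    (hi1 : hact i (1 : M3 F) = 1) (hj1 : hact j (1 : M3 F) = 1)
    (hgen : ∀ v : V, v ∈ VE ρ E → ρ i v = v → ρ j v = v → ∀ g, hact g (1 : M3 F) = 1 → ρ g v = v)
    (hF : Fintype.card F = 4) (hc : CT ρ) {n5 n7 : ℕ} (hn5 : n5 = 68 ∨ n5 = 48)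
    (hn7 : n7 = 80 ∨ n7 = 38) (hd : Dims ρ (⊤ : Submodule (ZMod 2) V) 248 86 n5 n7)
    {B : LinearMap.BilinForm (ZMod 2) V} (hB : B.Nondegenerate) (hs : ∀ x y, B x y = B y x)
    (hi : ∀ g x y, B (ρ g x) (ρ g y) = B x y) (h0 : fixAll ρ = ⊥)
    (hTR : finrank (ZMod 2) ((VE ρ E).map (av ρ (RR hF))) ≤ 3) {b : Bool} {N N' : Submodule (ZMod 2) V}
    (hN : IsNine ρ b N) (hN' : IsNine ρ (!b) N') : finrank (ZMod 2) (VE ρ (RR hF)) ≤ 5 := by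
  have h1 : VE ρ (RR hF) ≤ (VE ρ E).map (av ρ (RR hF)) ⊔ (VE ρ E ⊓ (N ⊔ N')) := by
    intro v hv
    obtain ⟨u, hu, w, hw, hwf, hv2⟩ := Cfsg.Agent.H955.L34.two_nines hE hi1 hj1 hgen hF hc hn5 hn7 hd hB hs hi h0 hN hN'
      (v := v) (fun g hg => mem_VE.1 hv g (mem_RR.2 hg))
    have h2 : Cfsg.Agent.H955.L34.trR ρ u = av ρ (RR hF) u := Cfsg.Agent.H902.NN.TrR_eq hF u
    rw [hv2, h2]
    exact Submodule.add_mem_sup ⟨u, mem_VE.2 hu, rfl⟩ ⟨mem_VE.2 fun g hg => hwf g ((hE g).1 hg).1, hw⟩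
  have h2 := Submodule.finrank_mono h1
  have h3 := Submodule.finrank_add_le_finrank_add_finrank ((VE ρ E).map (av ρ (RR hF))) (VE ρ E ⊓ (N ⊔ N'))
  have h4 := finrank_VE_two hF hE hN hN'
  omega

end Cfsg.Agent.H280.L34
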