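import Cfsg.Agent.H280.L34.DimR
import Cfsg.Agent.H280.L34.Av8
import Cfsg.Agent.H525.L34.EExp
import Cfsg.Agent.H904.L34.Uq

/-!
# S5917, D2: `dim V^R ≤ 5` from submodules of both types 9 (helper280)

`av_eq_T8` : the sum over the unitary group on the vectors fixed by `E` is the sum over the quaternion group;
`hV5` (matrices of helper904), `hV5'` (matrices of helper550).
-/

set_option autoImplicit false
set_option linter.unusedSectionVars false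

namespace Cfsg.Agent.H280.L34

open Matrix Cfsg.Agent.H691.L34 Module Cfsg.Agent.H904.L34 Cfsg.Agent.H904.L34.Unit

variable {F : Type} [Field F] [Fintype F] {V : Type} [AddCommGroup V] [Module (ZMod 2) V] [Module.Finite (ZMod 2) V]
  {ρ : Representation (ZMod 2) (G3 F) V}

/-- the unitary group is generated by `E`, `i`, `j` -/
theorem RR_le (hF : Fintype.card F = 4) {w : F} (hw : w ^ 2 + w + 1 = 0) {E : Subgroup (G3 F)}
    (hE : ∀ g : G3 F, g ∈ E ↔ (hact g (1 : M3 F) = 1 ∧ g ^ 3 = 1)) :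
    RR hF ≤ Subgroup.closure ((E : Set (G3 F)) ∪ {gi w hw hF, gj w hw hF}) := by
  intro g hg
  refine Cfsg.Agent.H955.L34.Gen.mem_of_unitary hF hw
    (T := Subgroup.closure ((E : Set (G3 F)) ∪ {gi w hw hF, gj w hw hF})) ?_ ?_ ?_ ?_ ?_ ?_ (mem_RR.1 hg)
  · exact Subgroup.subset_closure (Or.inl ((hE _).2 ⟨mem_R_s0 hw hF, s0_cube hw⟩))
  · exact Subgroup.subset_closure (Or.inl ((hE _).2 ⟨mem_R_g1 hw hF, g1_cube hw⟩))
  · exact Subgroup.subset_closure (Or.inl ((hE _).2 ⟨mem_R_g2 hF, g2_cube⟩))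
  · exact Subgroup.subset_closure (Or.inr (Or.inl rfl))
  · exact Subgroup.subset_closure (Or.inr (Or.inr rfl))
  · intro t ht
    have h1 : Subgroup.closure ((E : Set (G3 F)) ∪ {gi w hw hF, gj w hw hF}) ≤ RR hF := by
      rw [Subgroup.closure_le]
      rintro x (hx | rfl | rfl)
      · exact mem_RR.2 ((hE _).1 hx).1
      · exact mem_RR.2 (mem_gi hw hF)
      · exact mem_RR.2 (mem_gj hw hF)
    exact mem_RR.1 (h1 ht)

/-- **the sum over the unitary group on the vectors fixed by `E`** -/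
theorem av_eq_T8 (hF : Fintype.card F = 4) {w : F} (hw : w ^ 2 + w + 1 = 0) {E : Subgroup (G3 F)}
    (hE : ∀ g : G3 F, g ∈ E ↔ (hact g (1 : M3 F) = 1 ∧ g ^ 3 = 1)) {u : V} (hu : u ∈ VE ρ E) :
    av ρ (RR hF) u = T8 ρ (gi w hw hF) (gj w hw hF) u := by
  rw [T8_apply]
  refine av_eight ρ (R := RR hF) (E := E) (fun g hg => mem_RR.2 ((hE g).1 hg).1) (mem_RR.2 (mem_gi hw hF))
    (mem_RR.2 (mem_gj hw hF)) (i4 hw hF) (jj hw hF) (ji hw hF) (zz_ne hw hF) (fun e he => ((hE e).1 he).2)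
    (E_odd hF hE) (fun r hr e he => ?_) (RR_le hF hw hE) hu
  rw [hE] at he ⊢
  refine ⟨mem_RR.1 ((RR hF).mul_mem ((RR hF).mul_mem ((RR hF).inv_mem hr) (mem_RR.2 he.1)) hr), ?_⟩
  have h1 : (r⁻¹ * e * r) ^ 3 = r⁻¹ * e ^ 3 * r := by
    rw [pow_succ, pow_succ, pow_one, pow_succ, pow_succ, pow_one]
    group
  rw [h1, he.2, mul_one, inv_mul_cancel]

/-- the vectors fixed by `E` are the vectors fixed by its three generators -/
theorem VE_le_EE (hF : Fintype.card F = 4) {w : F} (hw : w ^ 2 + w + 1 = 0) {E : Subgroup (G3 F)}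
    (hE : ∀ g : G3 F, g ∈ E ↔ (hact g (1 : M3 F) = 1 ∧ g ^ 3 = 1)) : VE ρ E ≤ VE ρ (EE w hw) := by
  intro v hv
  rw [mem_VE]
  intro g hg
  have h1 : EE w hw ≤ E := EE_le hw ((hE _).2 ⟨mem_R_s0 hw hF, s0_cube hw⟩) ((hE _).2 ⟨mem_R_g1 hw hF, g1_cube hw⟩)
    ((hE _).2 ⟨mem_R_g2 hF, g2_cube⟩)
  exact mem_VE.1 hv g (h1 hg)

/-- **`dim V^R ≤ 5`** -/
theorem hV5 {w : F} (hw : w ^ 2 + w + 1 = 0) (hF : Fintype.card F = 4) (hc : CT ρ) {n5 n7 : ℕ}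
    (hn5 : n5 = 68 ∨ n5 = 48) (hn7 : n7 = 80 ∨ n7 = 38) (hd : Dims ρ (⊤ : Submodule (ZMod 2) V) 248 86 n5 n7)
    (h20 : Module.finrank (ZMod 2) (LinearMap.ker (ρ (g1 w hw) - LinearMap.id) ⊓ LinearMap.ker (ρ g2 - LinearMap.id) ⊓
      LinearMap.ker (ρ (gi w hw hF * gi w hw hF) - LinearMap.id) : Submodule (ZMod 2) V) = 20)
    {B : LinearMap.BilinForm (ZMod 2) V} (hB : B.Nondegenerate) (hs : ∀ x y, B x y = B y x)
    (hi : ∀ g x y, B (ρ g x) (ρ g y) = B x y) (h0 : fixAll ρ = ⊥) (b : Bool) (N N' : Submodule (ZMod 2) V)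
    (hN : IsNine ρ b N) (hN' : IsNine ρ (!b) N') : finrank (ZMod 2) (VE ρ (RR hF)) ≤ 5 := by
  obtain ⟨E, hE⟩ := Cfsg.Agent.H525.L34.EExp.exists_E (F := F) hF
  refine dimR_le hE (mem_gi hw hF) (mem_gj hw hF) (Cfsg.Agent.H955.L34.Gen.hgen hF hw hE) hF hc hn5 hn7 hd hB hs hi h0
    ?_ hN hN'
  have h1 : (VE ρ E).map (av ρ (RR hF)) ≤ (VE ρ (EE w hw)).map (T8 ρ (gi w hw hF) (gj w hw hF)) := by
    rintro _ ⟨u, hu, rfl⟩
    exact ⟨u, VE_le_EE hF hw hE hu, (av_eq_T8 hF hw hE hu).symm⟩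
  have h2 := Submodule.finrank_mono h1
  rw [(tr_facts hw hF hc hn5 hn7 hd h20).2.2.1] at h2
  exact h2

end Cfsg.Agent.H280.L34

namespace Cfsg.Agent.H280.L34

open Matrix Cfsg.Agent.H691.L34 Module Cfsg.Agent.H904.L34 Cfsg.Agent.H904.L34.Unit Cfsg.Agent.H904.L34.Uq
open Cfsg.Agent.H550.L34
open Cfsg.Agent.H955.L34.Gen (om_w)

variable {F : Type} [Field F] [Fintype F] {V : Type} [AddCommGroup V] [Module (ZMod 2) V] [Module.Finite (ZMod 2) V]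
  {ρ : Representation (ZMod 2) (G3 F) V} {ω : F}

/-- **`dim V^R ≤ 5`**, for `gD gP gZ` -/
theorem hV5' (h : Om ω) (hF : Fintype.card F = 4) (hc : CT ρ) {n5 n7 : ℕ}
    (hn5 : n5 = 68 ∨ n5 = 48) (hn7 : n7 = 80 ∨ n7 = 38) (hd : Dims ρ (⊤ : Submodule (ZMod 2) V) 248 86 n5 n7)
    (h20 : Module.finrank (ZMod 2) (LinearMap.ker (ρ (gD h) - LinearMap.id) ⊓ LinearMap.ker (ρ (gP h) - LinearMap.id) ⊓
      LinearMap.ker (ρ (gZ h) - LinearMap.id) : Submodule (ZMod 2) V) = 20)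
    {B : LinearMap.BilinForm (ZMod 2) V} (hB : B.Nondegenerate) (hs : ∀ x y, B x y = B y x)
    (hi : ∀ g x y, B (ρ g x) (ρ g y) = B x y) (h0 : fixAll ρ = ⊥) (b : Bool) (N N' : Submodule (ZMod 2) V)
    (hN : IsNine ρ b N) (hN' : IsNine ρ (!b) N') : finrank (ZMod 2) (VE ρ (RR hF)) ≤ 5 :=
  hV5 (om_w h) hF hc hn5 hn7 hd (h20_of h hF h20) hB hs hi h0 b N N' hN hN'

end Cfsg.Agent.H280.L34
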